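import Groth.Agent.AWNLib.Basic
import Mathlib.FieldTheory.IsPerfectClosure

/-!
# Radicial ring maps and field-valued points
-/

universe u

open AlgebraicGeometry CategoryTheory

namespace RadicialLib

variable {A B : Type u} [CommRing A] [CommRing B]

lemma universallyInjective_of_points (f : A →+* B)
    (h : ∀ (K : Type u) [Field K] (g₁ g₂ : B →+* K), g₁.comp f = g₂.comp f → g₁ = g₂) :
    UniversallyInjective (Spec.map (CommRingCat.ofHom f)) := by
  have key : UniversallyInjective (Spec.map (CommRingCat.ofHom f)) ↔ ∀ (K : Type u) [Field K],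
      Function.Injective (fun g : Spec (.of K) ⟶ Spec (CommRingCat.of B) => g ≫ Spec.map (CommRingCat.ofHom f)) :=
    (tfae_universallyInjective (f := Spec.map (CommRingCat.ofHom f))).out 0 1
  refine key.mpr fun K _ g₁ g₂ hg => ?_
  obtain ⟨g₁, rfl⟩ := Spec.map_surjective g₁
  obtain ⟨g₂, rfl⟩ := Spec.map_surjective g₂
  simp only at hg
  rw [← Spec.map_comp, ← Spec.map_comp] at hg
  have := congrArg CommRingCat.Hom.hom (Spec.map_injective hg)
  exact congrArg Spec.map (CommRingCat.hom_ext (h K _ _ this))

lemma pow_mem_of_universallyInjective (f : A →+* B) (hf : UniversallyInjective (Spec.map (CommRingCat.ofHom f)))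
    (Q : PrimeSpectrum B) (y : Q.asIdeal.ResidueField) :
    ∃ n : ℕ, y ^ ringExpChar (PrimeSpectrum.comap f Q).asIdeal.ResidueField ^ n ∈
      Set.range (Ideal.ResidueField.map (PrimeSpectrum.comap f Q).asIdeal Q.asIdeal f rfl) := by
  have key : UniversallyInjective (Spec.map (CommRingCat.ofHom f)) ↔
      Function.Injective (Spec.map (CommRingCat.ofHom f)) ∧
        ∀ x, ((Spec.map (CommRingCat.ofHom f)).residueFieldMap x).hom.IsPurelyInseparable :=
    (tfae_universallyInjective (f := Spec.map (CommRingCat.ofHom f))).out 0 2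
  have hp := (key.mp hf).2 Q
  let eA := Scheme.Spec.residueFieldIso (CommRingCat.of A) (Spec.map (CommRingCat.ofHom f) Q)
  let eB := Scheme.Spec.residueFieldIso (CommRingCat.of B) Q
  letI := ((Spec.map (CommRingCat.ofHom f)).residueFieldMap Q).hom.toAlgebra
  haveI : IsPurelyInseparable _ _ := hp
  haveI : ExpChar (PrimeSpectrum.comap f Q).asIdeal.ResidueField
      (ringExpChar (PrimeSpectrum.comap f Q).asIdeal.ResidueField) := ringExpChar.expChar _
  let eA' : (PrimeSpectrum.comap f Q).asIdeal.ResidueField →+* _ := eA.inv.hom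
  have : ExpChar ((Spec (CommRingCat.of A)).residueField (Spec.map (CommRingCat.ofHom f) Q))
      (ringExpChar (PrimeSpectrum.comap f Q).asIdeal.ResidueField) :=
    expChar_of_injective_ringHom (R := (PrimeSpectrum.comap f Q).asIdeal.ResidueField) eA'.injective _
  obtain ⟨n, z, hz⟩ := (isPurelyInseparable_iff_pow_mem _
    (ringExpChar (PrimeSpectrum.comap f Q).asIdeal.ResidueField)).1 hp (eB.inv.hom y)
  refine ⟨n, eA.hom.hom z, ?_⟩
  have hinj : Function.Injective eB.inv.hom := eB.symm.commRingCatIsoToRingEquiv.injective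
  apply hinj
  rw [map_pow, ← hz]
  refine (DFunLike.congr_fun (EtaLib.residueFieldMap_comp f Q) (eA.hom.hom z)).symm.trans ?_
  exact congrArg _ (eA.hom_inv_id_apply z)

lemma injective_comap_of_universallyInjective (f : A →+* B)
    (hf : UniversallyInjective (Spec.map (CommRingCat.ofHom f))) :
    Function.Injective (PrimeSpectrum.comap f) :=
  Scheme.Hom.injective (Spec.map (CommRingCat.ofHom f))

/-- Field-valued points of a radicial ring map are determined by their restriction. -/
lemma points_eq (f : A →+* B) (hinj : Function.Injective (PrimeSpectrum.comap f))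
    (hpi : ∀ (q : Ideal B) [q.IsPrime] (x : q.ResidueField), ∃ n : ℕ,
      x ^ (ringExpChar (q.comap f).ResidueField) ^ n ∈
        Set.range (Ideal.ResidueField.map (q.comap f) q f rfl))
    (K : Type u) [Field K] (g₁ g₂ : B →+* K) (h : g₁.comp f = g₂.comp f) : g₁ = g₂ := by
  let q := RingHom.ker g₁
  have hq : q.IsPrime := RingHom.ker_isPrime g₁
  have hk : RingHom.ker g₂ = q := by
    have := RingHom.ker_isPrime g₂
    refine congrArg PrimeSpectrum.asIdeal (a₁ := ⟨_, this⟩) (a₂ := ⟨q, hq⟩) (hinj (PrimeSpectrum.ext ?_))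
    show (RingHom.ker g₂).comap f = (RingHom.ker g₁).comap f
    rw [RingHom.comap_ker, RingHom.comap_ker, h]
  let p := q.comap f
  let G₁ : q.ResidueField →+* K := Ideal.ResidueField.lift q g₁ le_rfl (fun x hx => isUnit_iff_ne_zero.mpr hx)
  let G₂ : q.ResidueField →+* K := Ideal.ResidueField.lift q g₂ hk.ge
    (fun x hx => isUnit_iff_ne_zero.mpr fun h0 => hx (hk ▸ h0))
  let ι := Ideal.ResidueField.map p q f rfl
  have hι : G₁.comp ι = G₂.comp ι := by
    refine Ideal.ResidueField.ringHom_ext (RingHom.ext fun a => ?_)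
    simp only [RingHom.comp_apply, ι, Ideal.ResidueField.map_algebraMap]
    simpa [G₁, G₂] using DFunLike.congr_fun h a
  let e := ringExpChar p.ResidueField
  haveI : ExpChar p.ResidueField e := ringExpChar.expChar _
  haveI : ExpChar K e := expChar_of_injective_ringHom (G₁.comp ι).injective e
  refine RingHom.ext fun b => ?_
  obtain ⟨n, z, hz⟩ := hpi q (algebraMap B _ b)
  have h1 := congrArg G₁ hz
  have h2 := congrArg G₂ hz
  rw [map_pow] at h1 h2
  have : G₁ (algebraMap B _ b) = G₂ (algebraMap B _ b) := iterateFrobenius_inj K e n (by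
    rw [iterateFrobenius_def, iterateFrobenius_def, ← h1, ← h2]
    exact DFunLike.congr_fun hι z)
  simpa [G₁, G₂] using this

end RadicialLib
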